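import Groth.Agent.Sga4h.TameExt
import Mathlib.FieldTheory.IsAlgClosed.Basic
import Mathlib.FieldTheory.PurelyInseparable.Basic

/-!
# Geometric points over integral extensions of a strictly henselian ring

`R` strictly henselian local, `R'` a domain integral over `R`, `F` algebraically closed over the residue field of `R`:
there is a unique `R`-algebra homomorphism `R' → F`.
-/

set_option autoImplicit false
universe u

namespace Groth.Agent.Sga7.H386.Inert

open IsLocalRing

variable (R : Type u) [CommRing R] [HenselianLocalRing R] [IsSepClosed (ResidueField R)]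
  (R' : Type u) [CommRing R'] [IsDomain R'] [Algebra R R'] [Algebra.IsIntegral R R'] [IsLocalRing R']
  [IsLocalHom (algebraMap R R')]
  (F : Type u) [Field F] [Algebra R F]

omit [IsDomain R'] [IsSepClosed (ResidueField R)] [IsLocalHom (algebraMap R R')] in
theorem map_eq_zero (hF : ∀ r ∈ maximalIdeal R, algebraMap R F r = 0) (ψ : R' →ₐ[R] F) (x : R')
    (hx : x ∈ maximalIdeal R') : ψ x = 0 := by
  have hp : (RingHom.ker (ψ : R' →+* F)).IsPrime := RingHom.ker_isPrime _
  have h1 : (RingHom.ker (ψ : R' →+* F)).comap (algebraMap R R') = maximalIdeal R := by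
    have h2 : ((RingHom.ker (ψ : R' →+* F)).comap (algebraMap R R')) =
        RingHom.ker (algebraMap R F) := by
      ext r
      change ψ (algebraMap R R' r) = 0 ↔ algebraMap R F r = 0
      rw [AlgHom.commutes]
    rw [h2]
    apply le_antisymm
    · exact le_maximalIdeal (RingHom.ker_isPrime _).ne_top
    · intro r hr
      exact hF r hr
  have h3 : (RingHom.ker (ψ : R' →+* F)).IsMaximal := by
    apply Ideal.isMaximal_of_isIntegral_of_isMaximal_comap (R := R)
    rw [h1]
    infer_instance
  have h4 := eq_maximalIdeal h3
  rw [← h4] at hx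
  exact hx

theorem unique (hF : ∀ r ∈ maximalIdeal R, algebraMap R F r = 0) (ψ₁ ψ₂ : R' →ₐ[R] F) : ψ₁ = ψ₂ := by
  obtain ⟨h3, h4, h5⟩ := Groth.Agent.S1964.result R R'
  have hpi := (h5 inferInstance).2 h4
  let _ : Algebra (ResidueField R) (ResidueField R') := (ResidueField.map (algebraMap R R')).toAlgebra
  obtain ⟨q, hq⟩ := ExpChar.exists (ResidueField R)
  let φ : ResidueField R →+* F := Ideal.Quotient.lift _ (algebraMap R F) hF
  have hqF : ExpChar F q := expChar_of_injective_ringHom φ.injective q
  ext x
  obtain ⟨n, z, hz⟩ := (isPurelyInseparable_iff_pow_mem (ResidueField R) q).1 hpi (residue R' x)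
  obtain ⟨r, rfl⟩ := residue_surjective z
  have h6 : x ^ q ^ n - algebraMap R R' r ∈ maximalIdeal R' := by
    rw [← residue_eq_zero_iff, map_sub, map_pow, ← hz, sub_eq_zero]
    rfl
  have h7 : ∀ ψ : R' →ₐ[R] F, (ψ x) ^ q ^ n = algebraMap R F r := by
    intro ψ
    have := map_eq_zero R R' F hF ψ _ h6
    rwa [map_sub, map_pow, AlgHom.commutes, sub_eq_zero] at this
  apply iterateFrobenius_inj F q n
  rw [iterateFrobenius_def, iterateFrobenius_def, h7, h7]

theorem exists_hom [IsAlgClosed F] (hF : ∀ r ∈ maximalIdeal R, algebraMap R F r = 0) : Nonempty (R' →ₐ[R] F) := by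
  let _ : Algebra (ResidueField R) (ResidueField R') := (ResidueField.map (algebraMap R R')).toAlgebra
  let φ : ResidueField R →+* F := Ideal.Quotient.lift _ (algebraMap R F) hF
  let _ : Algebra (ResidueField R) F := φ.toAlgebra
  have h1 : Algebra.IsAlgebraic (ResidueField R) (ResidueField R') := by
    have : Algebra.IsIntegral (ResidueField R) (ResidueField R') := by
      constructor
      intro y
      obtain ⟨x, rfl⟩ := residue_surjective y
      obtain ⟨p, hp, hpx⟩ := Algebra.IsIntegral.isIntegral (R := R) x
      refine ⟨p.map (residue R), hp.map _, ?_⟩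
      have h2 := congrArg (residue R') hpx
      rw [Polynomial.hom_eval₂, map_zero] at h2
      rw [Polynomial.eval₂_map]
      exact h2
    infer_instance
  let θ : ResidueField R' →ₐ[ResidueField R] F := IsAlgClosed.lift
  exact ⟨{ (θ : ResidueField R' →+* F).comp (residue R') with
    commutes' := fun r => by
      change θ (residue R' (algebraMap R R' r)) = algebraMap R F r
      exact θ.commutes (residue R r) }⟩

end Groth.Agent.Sga7.H386.Inert
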