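import Groth.Agent.Sga67.TorsionLift
import Mathlib.FieldTheory.Galois.Basic
import Mathlib.FieldTheory.Normal.Closure
import Mathlib.FieldTheory.IntermediateField.Algebraic
import Mathlib.AlgebraicGeometry.Morphisms.FiniteType

/-!
# Points with values in an algebraic Galois extension come from a finite Galois level
-/

set_option autoImplicit false
universe u

open CategoryTheory Limits AlgebraicGeometry
open Groth.Agent.Sga67.TorsionLift

namespace Groth.Agent.Sga7.H386.Level

/-- A finite set of elements lies in a finite Galois subextension. -/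
theorem exists_galois_level (K Ω : Type u) [Field K] [Field Ω] [Algebra K Ω] [IsGalois K Ω] (s : Set Ω)
    (hs : s.Finite) : ∃ (F : IntermediateField K Ω), FiniteDimensional K F ∧ IsGalois K F ∧ s ⊆ F := by
  have : Finite s := hs
  let E := IntermediateField.adjoin K s
  have : FiniteDimensional K E := IntermediateField.finiteDimensional_adjoin fun x _ =>
    Algebra.IsIntegral.isIntegral x
  refine ⟨IntermediateField.normalClosure K E Ω, inferInstance, ?_, ?_⟩
  · have : Normal K (IntermediateField.normalClosure K E Ω) := inferInstance
    exact { }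
  · exact (IntermediateField.subset_adjoin K s).trans (IntermediateField.le_normalClosure E)

/-- A point with values in a Galois extension `Ω / K` comes from a finite Galois subextension. -/
theorem exists_level (R K Ω : Type u) [CommRing R] [Field K] [Field Ω] [Algebra R K] [Algebra K Ω] [Algebra R Ω]
    [IsScalarTower R K Ω] [IsGalois K Ω] (N : Over (Spec (CommRingCat.of R))) [LocallyOfFiniteType N.hom]
    (y : sp R Ω ⟶ N) :
    ∃ F : IntermediateField K Ω, FiniteDimensional K F ∧ IsGalois K F ∧
      ∃ y' : sp R F ⟶ N, y = spMap (F.val.restrictScalars R) ≫ y' := by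
  obtain ⟨O, _, _, j, hj, hp⟩ := exists_chart N (y.left (IsLocalRing.closedPoint Ω))
  obtain ⟨f, hf⟩ := exists_factor (T := Ω) N j y hp
  have hft : Algebra.FiniteType R O := by
    have h1 : LocallyOfFiniteType (sp R O).hom := by
      rw [← Over.w j]
      infer_instance
    have h2 : LocallyOfFiniteType (Spec.map (CommRingCat.ofHom (algebraMap R O))) := h1
    rw [HasRingHomProperty.Spec_iff (P := @LocallyOfFiniteType)] at h2
    exact RingHom.finiteType_algebraMap.1 h2
  obtain ⟨s, hs⟩ := hft.out
  obtain ⟨F, h1, h2, h3⟩ := exists_galois_level K Ω (f '' (s : Set O)) (s.finite_toSet.image f)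
  refine ⟨F, h1, h2, ?_⟩
  have h4 : ∀ o : O, f o ∈ F := by
    intro o
    have h5 : o ∈ Algebra.adjoin R (s : Set O) := hs ▸ Algebra.mem_top
    have h6 : Algebra.adjoin R (s : Set O) ≤ (F.toSubalgebra.restrictScalars R).comap f := by
      rw [Algebra.adjoin_le_iff]
      intro z hz
      exact h3 ⟨z, hz, rfl⟩
    exact h6 h5
  let f' : O →ₐ[R] F :=
    { toFun := fun o => ⟨f o, h4 o⟩
      map_one' := Subtype.ext (map_one f)
      map_mul' := fun a b => Subtype.ext (map_mul f a b)
      map_zero' := Subtype.ext (map_zero f)
      map_add' := fun a b => Subtype.ext (map_add f a b)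
      commutes' := fun r => Subtype.ext (by
        change f (algebraMap R O r) = algebraMap R Ω r
        rw [AlgHom.commutes]) }
  refine ⟨spMap f' ≫ j, ?_⟩
  rw [← Category.assoc, spMap_comp, hf]
  rfl

end Groth.Agent.Sga7.H386.Level
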